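import Groth.Agent.FlatModBC.StratFlat
import Groth.Agent.GrpdFit.Ideal
import Mathlib.AlgebraicGeometry.IdealSheaf.Subscheme
import Mathlib.AlgebraicGeometry.IdealSheaf.Functorial

/-!
A closed subscheme of a quasi-compact quasi-separated scheme is the limit of the finitely presented
closed subschemes containing it.
-/

set_option autoImplicit false
set_option linter.style.haveILetI false
set_option backward.isDefEq.respectTransparency false
universe u

open CategoryTheory CategoryTheory.Limits AlgebraicGeometry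

namespace Groth.Agent.LimClosed

variable {X : Scheme.{u}} (I : X.IdealSheafData)

/-- A finitely generated ideal of sections lies in a finite type ideal below `I`. -/
theorem exists_ft_le [CompactSpace X] [QuasiSeparatedSpace X] (U : X.affineOpens) (a : Γ(X, U.1))
    (ha : a ∈ I.ideal U) : ∃ L : X.IdealSheafData, L ≤ I ∧ (∀ V, (L.ideal V).FG) ∧ a ∈ L.ideal U := by
  classical
  let F := ClSub.idealMod I
  haveI : F.IsQuasicoherent := QC.isQCoh_idealMod I
  obtain ⟨e, he⟩ := (QC.mem_range_idealModι_affine I U a).mpr ha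
  let T' : Finset Γ(F, U.1) := {e}
  have hgen : QC.LocFinGen (QC.genSub (F := F) (T' : Set Γ(F, U.1))) U.1 := fun x hx =>
    ⟨U.1, U.2, hx, le_rfl, T', ⟨fun t ht => QC.mem_genSub_of_mem ht, fun _ _ => le_rfl⟩⟩
  obtain ⟨S', hS', hS'U⟩ := QC.exists_extend_qcqs _ hgen U.2.isCompact
  obtain ⟨hqc, hft⟩ := QC.Sub.isCoh_toModules hS'
  haveI : S'.toModules.IsQuasicoherent := hqc
  let i := S'.ι ≫ ClSub.idealModι I
  refine ⟨QC.idealSheafOf i, fun V => ?_, fun V => ?_, ?_⟩
  · rintro _ ⟨c, rfl⟩
    exact (QC.mem_range_idealModι_affine I V _).mp ⟨_, rfl⟩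
  · haveI := QC.finite_sections V.2 (M := S'.toModules) hft
    have : QC.idealOf i V.1 = LinearMap.range
        ({ toFun := fun c => (i.app V.1 c : Γ(X, V.1))
           map_add' := fun c d => map_add _ c d
           map_smul' := fun r c => Scheme.Modules.Hom.app_smul _ _ _ } :
          Γ(S'.toModules, V.1) →ₗ[Γ(X, V.1)] Γ(X, V.1)) := rfl
    show (QC.idealOf i V.1).FG
    rw [this]
    exact Submodule.fg_range _
  · obtain ⟨c, hc⟩ : ∃ c, S'.ι.app U.1 c = e := (S'.range_ι_app U.1 e).mpr (by
      rw [hS'U U.1 le_rfl]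
      exact QC.mem_genSub_of_mem (Finset.mem_singleton_self e))
    refine ⟨c, ?_⟩
    change (ClSub.idealModι I).app U.1 (S'.ι.app U.1 c) = a
    rw [hc, he]

/-- Finite type ideals below `I`. -/
abbrev FTBelow : Type u := {L : X.IdealSheafData // L ≤ I ∧ ∀ V, (L.ideal V).FG}

instance : Nonempty (FTBelow I) := ⟨⟨⊥, bot_le, fun V => by
  rw [Scheme.IdealSheafData.ideal_bot]; exact Submodule.fg_bot⟩⟩

instance : IsDirected (FTBelow I) (fun a b => a ≤ b) :=
  ⟨fun a b => ⟨⟨a.1 ⊔ b.1, sup_le a.2.1 b.2.1, fun V => by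
    rw [Scheme.IdealSheafData.ideal_sup]; exact Submodule.FG.sup (a.2.2 V) (b.2.2 V)⟩, show a.1 ≤ _ from le_sup_left,
    show b.1 ≤ _ from le_sup_right⟩⟩

theorem iSup_ftBelow [CompactSpace X] [QuasiSeparatedSpace X] : ⨆ L : FTBelow I, L.1 = I := by
  refine le_antisymm (iSup_le fun L => L.2.1) fun U a ha => ?_
  obtain ⟨L, hL, hfg, haL⟩ := exists_ft_le I U a ha
  exact (le_iSup (fun L : FTBelow I => L.1) ⟨L, hL, hfg⟩) U haL

/-- The finitely presented closed subschemes containing the closed subscheme of `I`. -/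
noncomputable def diagram : (FTBelow I)ᵒᵖ ⥤ Over X :=
  (Monotone.functor (f := fun L : FTBelow I => L.1) fun _ _ h => h).op ⋙
    Scheme.IdealSheafData.subschemeFunctor X

theorem diagram_obj (L : (FTBelow I)ᵒᵖ) : (diagram I).obj L = Over.mk L.unop.1.subschemeι := rfl

theorem lfp_diagram (L : (FTBelow I)ᵒᵖ) : LocallyOfFinitePresentation ((diagram I).obj L).hom :=
  GrpdFit.lfp_subschemeι L.unop.1 fun x => by
    obtain ⟨U, hU, hxU, -⟩ := exists_isAffineOpen_mem_and_subset (x := x) (U := (⊤ : X.Opens)) trivial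
    exact ⟨⟨U, hU⟩, hxU, L.unop.2.2 _⟩

instance isClosedImmersion_diagram (L : (FTBelow I)ᵒᵖ) : IsClosedImmersion ((diagram I).obj L).hom :=
  inferInstanceAs (IsClosedImmersion L.unop.1.subschemeι)

theorem isClosedImmersion_map {L L' : (FTBelow I)ᵒᵖ} (a : L ⟶ L') : IsClosedImmersion ((diagram I).map a).left :=
  haveI : IsClosedImmersion (((diagram I).map a).left ≫ ((diagram I).obj L').hom) := by
    rw [Over.w]; infer_instance
  IsClosedImmersion.of_comp _ ((diagram I).obj L').hom

/-- The cone over a closed immersion with ideal `I`. -/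
noncomputable def cone {Z : Scheme.{u}} (ι : Z ⟶ X) (h : ι.ker = I) : Cone (diagram I) where
  pt := Over.mk ι
  π :=
  { app := fun L => Over.homMk (IsClosedImmersion.lift ((diagram I).obj L).hom ι
      ((Scheme.IdealSheafData.ker_subschemeι L.unop.1).le.trans (L.unop.2.1.trans h.ge)))
      (IsClosedImmersion.lift_fac _ _ _)
    naturality := fun L L' a => by
      ext1
      rw [← cancel_mono ((diagram I).obj L').hom]
      simp only [Functor.const_obj_map, Category.id_comp, Over.comp_left, Category.assoc, Over.homMk_left]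
      rw [Over.w ((diagram I).map a), IsClosedImmersion.lift_fac, IsClosedImmersion.lift_fac]
      exact Category.id_comp ι }

/-- The closed subscheme is the limit. -/
noncomputable def isLimitCone [CompactSpace X] [QuasiSeparatedSpace X] {Z : Scheme.{u}} (ι : Z ⟶ X) [IsClosedImmersion ι]
    (h : ι.ker = I) : IsLimit (cone I ι h) :=
  have hle : ∀ s : Cone (diagram I), ι.ker ≤ s.pt.hom.ker := fun s => by
    refine (h.trans (iSup_ftBelow I).symm).le.trans (iSup_le fun L => ?_)
    have h1 : (s.π.app (Opposite.op L)).left ≫ L.1.subschemeι = s.pt.hom := Over.w (s.π.app (Opposite.op L))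
    calc L.1 = L.1.subschemeι.ker := (Scheme.IdealSheafData.ker_subschemeι _).symm
      _ ≤ ((s.π.app (Opposite.op L)).left ≫ L.1.subschemeι).ker := Scheme.Hom.le_ker_comp _ _
      _ = s.pt.hom.ker := by rw [h1]
  { lift := fun s => Over.homMk (IsClosedImmersion.lift ι s.pt.hom (hle s)) (IsClosedImmersion.lift_fac _ _ _)
    fac := fun s L => by
      ext1
      rw [← cancel_mono ((diagram I).obj L).hom]
      simp only [Over.comp_left, Category.assoc]
      rw [Over.w, Over.w (s.π.app L)]
      exact IsClosedImmersion.lift_fac _ _ _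
    uniq := fun s m _ => by
      ext1
      rw [← cancel_mono ι]
      exact (Over.w m).trans (IsClosedImmersion.lift_fac _ _ _).symm }

end Groth.Agent.LimClosed
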